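import Mathlib
import Cfsg.Agent.Lib.Helper93.M11U.Defs

set_option autoImplicit false

/-! S0420 project, package FIXDIM: the sum of a character over a subgroup `H` is `|H|` times
the dimension of the fixed space of `H`. -/

namespace Cfsg.Agent.Lib.Helper72.M11U

open Cfsg.Agent.Lib.Helper93.M11U

universe u w

variable {G : Type u} [Group G] {V : Type w} [AddCommGroup V] [Module ℂ V]

/-- The fixed space of a subgroup `H` in a representation. -/
def fixSub (ρ : Representation ℂ G V) (H : Subgroup G) : Submodule ℂ V where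
  carrier := {v | ∀ h ∈ H, ρ h v = v}
  add_mem' := by
    intro a b ha hb h hh
    rw [map_add, ha h hh, hb h hh]
  zero_mem' := by
    intro h _
    exact map_zero _
  smul_mem' := by
    intro c v hv h hh
    rw [map_smul, hv h hh]

theorem mem_fixSub (ρ : Representation ℂ G V) (H : Subgroup G) (v : V) :
    v ∈ fixSub ρ H ↔ ∀ h ∈ H, ρ h v = v := Iff.rfl

theorem fixSub_anti (ρ : Representation ℂ G V) {H H' : Subgroup G} (h : H ≤ H') :
    fixSub ρ H' ≤ fixSub ρ H :=
  fun _ hv k hk => hv k (h hk)

/-- The sum of the character over `H` is `|H|` times the dimension of the fixed space. -/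
theorem sumOn_character [Finite G] [FiniteDimensional ℂ V] (ρ : Representation ℂ G V)
    (H : Subgroup G) :
    sumOn ρ.character H = (Nat.card H : ℂ) * (Module.finrank ℂ (fixSub ρ H) : ℂ) := by
  classical
  have : Fintype H := Fintype.ofFinite H
  have hcard : (Fintype.card H : ℂ) ≠ 0 := by
    exact_mod_cast Fintype.card_ne_zero
  let S : V →ₗ[ℂ] V := ∑ h : H, ρ (h : G)
  let P : V →ₗ[ℂ] V := ((Fintype.card H : ℂ))⁻¹ • S
  have hS : ∀ x : V, S x = ∑ h : H, ρ (h : G) x := by
    intro x
    simp [S, LinearMap.sum_apply]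
  have hP : LinearMap.IsProj (fixSub ρ H) P := by
    constructor
    · intro x k hk
      show ρ k (P x) = P x
      simp only [P, LinearMap.smul_apply, map_smul, hS, map_sum]
      congr 1
      have e : ∀ h : H, ρ k (ρ (h : G) x) = ρ (((⟨k, hk⟩ : H) * h : H) : G) x := by
        intro h
        rw [Subgroup.coe_mul, map_mul]
        rfl
      simp_rw [e]
      exact Fintype.sum_equiv (Equiv.mulLeft (⟨k, hk⟩ : H)) _ _ (fun h => rfl)
    · intro x hx
      simp only [P, LinearMap.smul_apply, hS]
      have e : ∀ h : H, ρ (h : G) x = x := fun h => hx h h.2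
      simp_rw [e]
      rw [Finset.sum_const, Finset.card_univ, ← Nat.cast_smul_eq_nsmul ℂ, smul_smul,
        inv_mul_cancel₀ hcard, one_smul]
  have htr := hP.trace
  have h1 : LinearMap.trace ℂ V P
      = ((Fintype.card H : ℂ))⁻¹ * ∑ h : H, ρ.character (h : G) := by
    simp only [P, S, map_smul, map_sum, smul_eq_mul]
    rfl
  have h2 : sumOn ρ.character H = ∑ h : H, ρ.character (h : G) := by
    unfold sumOn
    exact finsum_eq_sum_of_fintype _
  rw [h2, Nat.card_eq_fintype_card, ← htr, h1, ← mul_assoc, mul_inv_cancel₀ hcard, one_mul]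

theorem pkgFixDim : PkgFixDim.{u} := by
  intro G _ _ χ ⟨n, ρ, hρ⟩
  refine ⟨fun H => Module.finrank ℂ (fixSub ρ H), ?_, ?_⟩
  · intro H
    rw [← hρ]
    exact sumOn_character ρ H
  · intro H H' hle
    exact Submodule.finrank_mono (fixSub_anti ρ hle)

end Cfsg.Agent.Lib.Helper72.M11U
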