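import Mathlib
import Cfsg.Agent.Lib.Helper93.M11U.Defs
import Cfsg.Agent.Lib.Helper72.M11U.FixDim

set_option autoImplicit false

/-! S0420 project, package STAB: the stabilizer of a common fixed vector. -/

namespace Cfsg.Agent.Lib.Helper72.M11U

open Cfsg.Agent.Lib.Helper93.M11U

universe u

theorem pkgStab : PkgStab.{u} := by
  intro G _ _ χ ⟨n, ρ, hirr, hρ⟩ hχ1 F H₁ H₂ hF1 hF2 hsum hH1
  subst hρ
  have eF := sumOn_character ρ F
  have e2 := sumOn_character ρ H₂
  have e1 := sumOn_character ρ H₁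
  have hFpos : (Nat.card F : ℂ) ≠ 0 := by exact_mod_cast Nat.card_pos.ne'
  have h2pos : (Nat.card H₂ : ℂ) ≠ 0 := by exact_mod_cast Nat.card_pos.ne'
  have hdim : Module.finrank ℂ (fixSub ρ F) = Module.finrank ℂ (fixSub ρ H₂) := by
    rw [eF, e2] at hsum
    have h3 : (Nat.card F : ℂ) * (Nat.card H₂ : ℂ) *
        ((Module.finrank ℂ (fixSub ρ F) : ℂ) - (Module.finrank ℂ (fixSub ρ H₂) : ℂ)) = 0 := by
      linear_combination hsum
    have h4 := mul_ne_zero hFpos h2pos
    have h5 := (mul_eq_zero.mp h3).resolve_left h4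
    have h6 : (Module.finrank ℂ (fixSub ρ F) : ℂ) = (Module.finrank ℂ (fixSub ρ H₂) : ℂ) :=
      sub_eq_zero.mp h5
    exact_mod_cast h6
  have hEq : fixSub ρ H₂ = fixSub ρ F :=
    Submodule.eq_of_le_of_finrank_eq (fixSub_anti ρ hF2) hdim.symm
  have hd1 : Module.finrank ℂ (fixSub ρ H₁) ≠ 0 := by
    intro h0
    apply hH1
    rw [e1, h0]
    simp
  obtain ⟨v, hv, hv0⟩ : ∃ v ∈ fixSub ρ H₁, v ≠ 0 := by
    have hne : fixSub ρ H₁ ≠ ⊥ := by
      intro hbot
      apply hd1
      rw [hbot]
      simp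
    exact (Submodule.ne_bot_iff _).mp hne
  have hvF : v ∈ fixSub ρ F := fixSub_anti ρ hF1 hv
  have hv2 : v ∈ fixSub ρ H₂ := by rw [hEq]; exact hvF
  let M : Subgroup G :=
    { carrier := {g | ρ g v = v}
      mul_mem' := by
        intro a b ha hb
        show ρ (a * b) v = v
        rw [map_mul, Module.End.mul_apply]
        have ha' : ρ a v = v := ha
        have hb' : ρ b v = v := hb
        rw [hb', ha']
      one_mem' := by
        show ρ 1 v = v
        simp
      inv_mem' := by
        intro a ha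
        show ρ a⁻¹ v = v
        have ha' : ρ a v = v := ha
        have h : ρ a⁻¹ (ρ a v) = v := by
          rw [← Module.End.mul_apply, ← map_mul, inv_mul_cancel, map_one]
          rfl
        rw [ha'] at h
        exact h }
  have hMmem : ∀ g : G, g ∈ M ↔ ρ g v = v := fun _ => Iff.rfl
  refine ⟨M, fun h hh => (hMmem h).mpr (hv h hh), fun h hh => (hMmem h).mpr (hv2 h hh), ?_, ?_⟩
  · intro htop
    have hall : ∀ g : G, ρ g v = v := by
      intro g
      have : g ∈ M := by rw [htop]; exact Subgroup.mem_top g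
      exact (hMmem g).mp this
    let L : Subrepresentation ρ :=
      ⟨Submodule.span ℂ {v}, fun g w hw => by
        obtain ⟨c, rfl⟩ := Submodule.mem_span_singleton.mp hw
        rw [map_smul, hall g]
        exact Submodule.smul_mem _ _ (Submodule.mem_span_singleton_self v)⟩
    have hL : L = ⊤ := by
      rcases eq_bot_or_eq_top L with h1 | h1
      · exfalso
        have hvL : v ∈ L.toSubmodule := Submodule.mem_span_singleton_self v
        rw [h1] at hvL
        exact hv0 ((Submodule.mem_bot ℂ).1 hvL)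
      · exact h1
    have hspan : Submodule.span ℂ {v} = ⊤ := congrArg Subrepresentation.toSubmodule hL
    have hfr : Module.finrank ℂ (Fin n → ℂ) = 1 := by
      rw [← finrank_top ℂ (Fin n → ℂ), ← hspan]
      exact finrank_span_singleton hv0
    apply hχ1
    show LinearMap.trace ℂ (Fin n → ℂ) (ρ 1) = 1
    rw [map_one, Module.End.one_eq_id, LinearMap.trace_id, hfr]
    simp
  · rw [sumOn_character ρ M]
    have hvM : v ∈ fixSub ρ M := fun g hg => (hMmem g).mp hg
    have hfin : Module.finrank ℂ (fixSub ρ M) ≠ 0 := by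
      intro h0
      have hbot : fixSub ρ M = ⊥ := Submodule.finrank_eq_zero.mp h0
      rw [hbot] at hvM
      exact hv0 ((Submodule.mem_bot ℂ).1 hvM)
    have hMpos : (Nat.card M : ℂ) ≠ 0 := by exact_mod_cast Nat.card_pos.ne'
    exact mul_ne_zero hMpos (by exact_mod_cast hfin)

end Cfsg.Agent.Lib.Helper72.M11U
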