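import Mathlib
import Cfsg.Agent.Lib.Helper93.M11U.Defs

set_option autoImplicit false

/-!
# S0420, package [Y0ISO]: `Y0` is the symmetric group of degree `5`

A group `Y` of order `120` with a subgroup `N ≃* A₅` of order `60` and an element of order `4`
is `S₅`: the normalizer `L` of a Sylow `2`-subgroup of `N` has index `5` (Frattini), and the
kernel of the action on `Y ⧸ L` meets `N` trivially, so it is central of order at most `2`;
were it of order `2`, `Y` would be `N × 2`, which has no element of order `4`.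
-/

namespace Cfsg.Agent.Lib.Helper72.M11U

open Equiv

universe u

/-- a Klein four-group of `A₅`, as a finite set of permutations -/
def y0S : Finset (Perm (Fin 5)) :=
  {1, swap 0 1 * swap 2 3, swap 0 2 * swap 1 3, swap 0 3 * swap 1 2}

/-- a `3`-cycle normalizing it -/
def y0c : Perm (Fin 5) := swap 0 1 * swap 1 2

theorem y0S_one : (1 : Perm (Fin 5)) ∈ y0S := by decide +kernel

theorem y0S_mul : ∀ x ∈ y0S, ∀ y ∈ y0S, x * y ∈ y0S := by decide +kernel

theorem y0S_inv : ∀ x ∈ y0S, x⁻¹ ∈ y0S := by decide +kernel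

theorem y0S_alt : ∀ x ∈ y0S, x ∈ alternatingGroup (Fin 5) := by
  have h : ∀ x ∈ y0S, Perm.sign x = 1 := by decide +kernel
  exact fun x hx => Perm.mem_alternatingGroup.mpr (h x hx)

theorem y0S_card : y0S.card = 4 := by decide +kernel

theorem y0S_conj : ∀ x ∈ y0S, y0c * x * y0c⁻¹ ∈ y0S := by decide +kernel

theorem y0c_alt : y0c ∈ alternatingGroup (Fin 5) :=
  Perm.mem_alternatingGroup.mpr (by decide +kernel)

theorem y0c_order : orderOf y0c = 3 :=
  orderOf_eq_prime (by decide +kernel) (by decide +kernel)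

theorem y0_no4 :
    ∀ σ : Perm (Fin 5), σ ∈ alternatingGroup (Fin 5) → σ ^ 4 = 1 → σ ^ 2 = 1 := by
  have h : ∀ σ : Perm (Fin 5), Perm.sign σ = 1 → σ ^ 4 = 1 → σ ^ 2 = 1 := by decide +kernel
  exact fun σ hσ => h σ (Perm.mem_alternatingGroup.mp hσ)

/-- the facts about `A₅` that are used, for a group isomorphic to it -/
theorem y0_data {N : Type u} [Group N] (e : N ≃* alternatingGroup (Fin 5)) :
    (∃ (V₀ : Subgroup N) (c : N), Nat.card V₀ = 4 ∧ orderOf c = 3 ∧
        ∀ x ∈ V₀, c * x * c⁻¹ ∈ V₀) ∧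
      ∀ x : N, x ^ 4 = 1 → x ^ 2 = 1 := by
  constructor
  · let W : Subgroup (alternatingGroup (Fin 5)) :=
      { carrier := {σ | σ.1 ∈ y0S}
        mul_mem' := fun {a b} ha hb => y0S_mul _ ha _ hb
        one_mem' := y0S_one
        inv_mem' := fun {a} ha => y0S_inv _ ha }
    have hW : Nat.card W = 4 := by
      have e1 : W ≃ {x // x ∈ y0S} :=
        { toFun := fun σ => ⟨σ.1.1, σ.2⟩
          invFun := fun x => ⟨⟨x.1, y0S_alt x.1 x.2⟩, x.2⟩
          left_inv := fun σ => rfl
          right_inv := fun x => rfl }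
      rw [Nat.card_congr e1, Nat.card_eq_fintype_card, Fintype.card_coe, y0S_card]
    refine ⟨W.map e.symm.toMonoidHom, e.symm ⟨y0c, y0c_alt⟩, ?_, ?_, ?_⟩
    · rw [Subgroup.card_map_of_injective e.symm.injective, hW]
    · rw [MulEquiv.orderOf_eq, Subgroup.orderOf_mk, y0c_order]
    · rintro x ⟨σ, hσ, rfl⟩
      refine ⟨⟨y0c, y0c_alt⟩ * σ * ⟨y0c, y0c_alt⟩⁻¹, y0S_conj _ hσ, ?_⟩
      simp
  · intro x hx
    have h1 : (e x) ^ 4 = 1 := by rw [← map_pow, hx, map_one]
    have h2 : ((e x : alternatingGroup (Fin 5)) : Perm (Fin 5)) ^ 4 = 1 := by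
      have := congrArg Subtype.val h1
      simpa using this
    have h3 := y0_no4 _ (e x).2 h2
    have h4 : (e x) ^ 2 = 1 := Subtype.ext (by simpa using h3)
    have : e (x ^ 2) = e 1 := by rw [map_pow, h4, map_one]
    exact e.injective this

/-- a group of order `120` with a subgroup `A₅` and an element of order `4` is `S₅` -/
theorem y0_main {Y : Type u} [Group Y] [Finite Y] (N : Subgroup Y)
    (hY : Nat.card Y = 120) (hN : Nat.card N = 60)
    (e : N ≃* alternatingGroup (Fin 5)) (u : Y) (hu : orderOf u = 4) :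
    Nonempty (Y ≃* Perm (Fin 5)) := by
  classical
  have hidx : N.index = 2 := by
    have := N.card_mul_index
    rw [hY, hN] at this
    omega
  have hNn : N.Normal := Subgroup.normal_of_index_eq_two hidx
  have : Fact (Nat.Prime 2) := ⟨Nat.prime_two⟩
  have : Nontrivial N := by
    rw [← Finite.one_lt_card_iff_nontrivial, hN]; norm_num
  have hsimple : IsSimpleGroup N :=
    IsSimpleGroup.isSimpleGroup_of_surjective e.symm.toMonoidHom e.symm.surjective
  obtain ⟨⟨V₀, c, hV₀, hc, hcV⟩, h4⟩ := y0_data e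
  -- a Sylow `2`-subgroup
  obtain ⟨Q, hQ⟩ := (IsPGroup.of_card (p := 2) (n := 2) (by rw [hV₀]; norm_num)).exists_le_sylow
  have hQcard : Nat.card (Q : Subgroup N) = 4 := by
    obtain ⟨n, hn⟩ := IsPGroup.iff_card.mp Q.2
    have h1 : Nat.card V₀ ∣ Nat.card (Q : Subgroup N) := Subgroup.card_dvd_of_le hQ
    have h2 : Nat.card (Q : Subgroup N) ∣ Nat.card N := Subgroup.card_subgroup_dvd_card _
    rw [hV₀] at h1
    rw [hN] at h2
    have hle : Nat.card (Q : Subgroup N) ≤ 60 := Nat.le_of_dvd (by norm_num) h2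
    have hn6 : n < 6 := by
      by_contra hcon
      have : 2 ^ 6 ≤ 2 ^ n := Nat.pow_le_pow_right (by norm_num) (by omega)
      omega
    rw [hn] at h1 h2 ⊢
    interval_cases n <;> omega
  have hVQ : V₀ = (Q : Subgroup N) :=
    Subgroup.eq_of_le_of_card_ge hQ (by rw [hQcard, hV₀])
  have hcQ : ∀ x ∈ (Q : Subgroup N), c * x * c⁻¹ ∈ (Q : Subgroup N) := by
    rw [← hVQ]; exact hcV
  set V : Subgroup Y := (Q : Subgroup N).map N.subtype with hVdef
  set L : Subgroup Y := Subgroup.normalizer V with hLdef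
  have hfr : L ⊔ N = ⊤ := Sylow.normalizer_sup_eq_top Q
  have hVN : V ≤ N := Subgroup.map_subtype_le _
  have hVcard : Nat.card V = 4 := by
    rw [hVdef, Subgroup.card_map_of_injective N.subtype_injective, hQcard]
  have hVL : V ≤ L := Subgroup.le_normalizer
  -- `c` normalizes `V`
  have hc3 : (c : Y) * c * c = 1 := by
    have : c ^ 3 = 1 := by rw [← hc]; exact pow_orderOf_eq_one c
    have h := congrArg Subtype.val this
    simpa [pow_succ] using h
  have hc3' : (c : Y)⁻¹ * (c : Y)⁻¹ * (c : Y)⁻¹ = 1 := by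
    rw [← mul_inv_rev, ← mul_inv_rev, ← mul_assoc, hc3, inv_one]
  have hconj : ∀ h ∈ V, (c : Y) * h * (c : Y)⁻¹ ∈ V := by
    rintro h ⟨x, hx, rfl⟩
    exact ⟨c * x * c⁻¹, hcQ x hx, by simp⟩
  have hcL : (c : Y) ∈ L := by
    rw [hLdef, Subgroup.mem_normalizer_iff]
    intro h
    refine ⟨hconj h, fun hh => ?_⟩
    have h2 := hconj _ (hconj _ hh)
    have h3 : (c : Y) * ((c : Y) * ((c : Y) * h * (c : Y)⁻¹) * (c : Y)⁻¹) * (c : Y)⁻¹ =
        ((c : Y) * c * c) * h * ((c : Y)⁻¹ * (c : Y)⁻¹ * (c : Y)⁻¹) := by group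
    rw [h3, hc3, hc3', one_mul, mul_one] at h2
    exact h2
  -- the order of `L ⊓ N`
  have h12 : Nat.card ↥(L ⊓ N) = 12 := by
    have d4 : 4 ∣ Nat.card ↥(L ⊓ N) := by
      rw [← hVcard]; exact Subgroup.card_dvd_of_le (le_inf hVL hVN)
    have d3 : 3 ∣ Nat.card ↥(L ⊓ N) := by
      have := Subgroup.orderOf_dvd_natCard (L ⊓ N) (x := (c : Y)) ⟨hcL, c.2⟩
      rwa [Subgroup.orderOf_coe, hc] at this
    have d60 : Nat.card ↥(L ⊓ N) ∣ 60 := by
      rw [← hN]; exact Subgroup.card_dvd_of_le inf_le_right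
    have hne : Nat.card ↥(L ⊓ N) ≠ 60 := by
      intro h60
      have hNL : N ≤ L := by
        have : L ⊓ N = N := Subgroup.eq_of_le_of_card_ge inf_le_right (by rw [h60, hN])
        rw [← this]; exact inf_le_left
      have hnorm : (Q : Subgroup N).Normal := by
        refine ⟨fun x hx n => ?_⟩
        have hnL : (n : Y) ∈ L := hNL n.2
        rw [hLdef, Subgroup.mem_normalizer_iff] at hnL
        have hxV : (x : Y) ∈ V := ⟨x, hx, rfl⟩
        obtain ⟨y, hy, hyx⟩ := (hnL _).mp hxV
        have : y = n * x * n⁻¹ := Subtype.ext (by simpa using hyx)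
        rw [← this]; exact hy
      rcases hnorm.eq_bot_or_eq_top with hb | ht
      · rw [hb] at hQcard; simp at hQcard
      · rw [ht] at hQcard
        rw [Subgroup.card_top, hN] at hQcard
        omega
    obtain ⟨k, hk⟩ : 12 ∣ Nat.card ↥(L ⊓ N) := by omega
    obtain ⟨m, hm⟩ := d60
    rw [hk] at hm hne ⊢
    have hk5 : k ≤ 5 := by
      rcases Nat.eq_zero_or_pos m with h0 | hpos
      · subst h0; omega
      · nlinarith
    interval_cases k <;> omega
  -- the index of `L`
  have hL5 : L.index = 5 := by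
    have h1 : N.relIndex L = 2 := by
      rw [← Subgroup.relIndex_sup_right, hfr, Subgroup.relIndex_top_right, hidx]
    have h2 : (N ⊓ L).relIndex L * L.index = (N ⊓ L).index :=
      Subgroup.relIndex_mul_index inf_le_right
    rw [Subgroup.inf_relIndex_right, h1] at h2
    have h3 := (N ⊓ L).card_mul_index
    rw [inf_comm, h12, hY] at h3
    rw [inf_comm] at h2
    omega
  have hq5 : Nat.card (Y ⧸ L) = 5 := hL5
  -- the action on the cosets of `L`
  set φ : Y →* Perm (Y ⧸ L) := MulAction.toPermHom Y (Y ⧸ L) with hφ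
  have hker : φ.ker = L.normalCore := (Subgroup.normalCore_eq_ker L).symm
  have hLcard : Nat.card L = 24 := by
    have := L.card_mul_index
    rw [hL5, hY] at this
    omega
  have hdisj : Disjoint L.normalCore N := by
    rw [← Subgroup.subgroupOf_eq_bot]
    rcases (inferInstance : (L.normalCore.subgroupOf N).Normal).eq_bot_or_eq_top with hb | ht
    · exact hb
    · exfalso
      rw [Subgroup.subgroupOf_eq_top] at ht
      have := Subgroup.card_le_of_le (ht.trans L.normalCore_le)
      omega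
  have hinj : Function.Injective φ := by
    rw [injective_iff_map_eq_one]
    intro z hz
    have hzR : z ∈ L.normalCore := by rw [← hker]; exact hz
    by_contra hz1
    have hzN : z ∉ N := fun h => hz1 (Subgroup.disjoint_def.mp hdisj hzR h)
    have hRn : L.normalCore.Normal := inferInstance
    -- `z` is central
    have hcomm : ∀ y : Y, y * z = z * y := by
      intro y
      have h1 : y * z * y⁻¹ * z⁻¹ ∈ L.normalCore :=
        mul_mem (hRn.conj_mem z hzR y) (inv_mem hzR)
      have h2 : y * z * y⁻¹ * z⁻¹ ∈ N := by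
        rw [Subgroup.mul_mem_iff_of_index_two hidx]
        constructor
        · intro h
          exfalso
          have := hNn.conj_mem _ h y⁻¹
          apply hzN
          simpa [mul_assoc] using this
        · intro h
          exact absurd (by simpa using h) hzN
      have h3 := Subgroup.disjoint_def.mp hdisj h1 h2
      have : y * z * y⁻¹ = z := by
        rw [mul_inv_eq_one] at h3; exact h3
      exact mul_inv_eq_iff_eq_mul.mp this
    have hzz : z * z = 1 := by
      apply Subgroup.disjoint_def.mp hdisj (mul_mem hzR hzR)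
      rw [Subgroup.mul_mem_iff_of_index_two hidx]
    -- an element of `N` with the same square as `u`
    have hx : ∃ x : N, (x : Y) ^ 2 = u ^ 2 := by
      by_cases huN : u ∈ N
      · exact ⟨⟨u, huN⟩, rfl⟩
      · refine ⟨⟨u * z, ?_⟩, ?_⟩
        · rw [Subgroup.mul_mem_iff_of_index_two hidx]
          exact ⟨fun h => absurd h huN, fun h => absurd h hzN⟩
        · show (u * z) ^ 2 = u ^ 2
          rw [pow_two, pow_two]
          calc u * z * (u * z) = u * (z * u) * z := by group
            _ = u * (u * z) * z := by rw [hcomm u]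
            _ = u * u * (z * z) := by group
            _ = u * u := by rw [hzz, mul_one]
    obtain ⟨x, hx⟩ := hx
    have hu4 : u ^ 4 = 1 := by rw [← hu]; exact pow_orderOf_eq_one u
    have hx4 : x ^ 4 = 1 := by
      apply Subtype.ext
      show (x : Y) ^ 4 = 1
      calc (x : Y) ^ 4 = ((x : Y) ^ 2) ^ 2 := by rw [← pow_mul]
        _ = (u ^ 2) ^ 2 := by rw [hx]
        _ = u ^ 4 := by rw [← pow_mul]
        _ = 1 := hu4
    have hx2 := h4 x hx4
    have hu2 : u ^ 2 = 1 := by
      rw [← hx]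
      have := congrArg Subtype.val hx2
      simpa using this
    have := orderOf_dvd_of_pow_eq_one hu2
    rw [hu] at this
    omega
  have hbij : Function.Bijective φ := by
    apply hinj.bijective_of_nat_card_le
    rw [Nat.card_perm, hq5, hY]
    decide
  exact ⟨(MulEquiv.ofBijective φ hbij).trans (Equiv.permCongrHom (Finite.equivFinOfCardEq hq5))⟩

open Cfsg.Agent.Lib.Helper93.M11U in
/-- **[Y0ISO]** `Y0` is the symmetric group of degree `5`. -/
theorem pkgY0Iso : PkgY0Iso.{u} := by
  intro G _ _ T _ _ C hX hYf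
  obtain ⟨⟨e⟩, hX60, -, -, -⟩ := hX
  obtain ⟨hY120, hXY, -, -⟩ := hYf
  have huY : C.u ∈ Y0 C := Subgroup.mem_sup_right (Subgroup.mem_zpowers _)
  refine y0_main ((X0 C).subgroupOf (Y0 C)) hY120 ?_
    ((Subgroup.subgroupOfEquivOfLe hXY).trans e) ⟨C.u, huY⟩ ?_
  · rw [Nat.card_congr (Subgroup.subgroupOfEquivOfLe hXY).toEquiv, hX60]
  · rw [Subgroup.orderOf_mk, C.hu]

end Cfsg.Agent.Lib.Helper72.M11U
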